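import Mathlib
import Groth.Prelude.Def_PBC
import Groth.Agent.Lib.Helper6.IndEtObj
import Groth.Agent.Lib.Helper6.IndEtAcc
import Groth.Agent.Lib.Helper6.IndEtDiag
import Groth.Agent.Lib.Helper6.HensIndEt

/-!
# The category of étale algebras over a fixed algebra is filtered (helper6)

For an `A`-algebra `Xr` the comma category of étale `A`-algebras `W` equipped with an
`A`-algebra map `W → Xr` is filtered and essentially small.
-/

set_option autoImplicit false
set_option linter.unusedSectionVars false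
set_option linter.unusedVariables false
set_option linter.unusedSimpArgs false
set_option linter.style.haveILetI false
set_option maxHeartbeats 800000
set_option synthInstance.maxHeartbeats 400000

universe u

open CategoryTheory CategoryTheory.Limits TensorProduct

namespace Groth.Agent.Lib.Helper6.IndEtLift

open Groth.Agent.Lib.Helper6.IndEtObj Groth.Agent.Lib.Helper6.HensIndEt
  Groth.Agent.Lib.Helper6.IndEtDiag

section Defs

variable {A : Type u} [CommRing A]

theorem etaleProp_mk (W : Type u) [CommRing W] [Algebra A W] [Algebra.Etale A W] :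
    etaleProp A (Under.mk (CommRingCat.ofHom (algebraMap A W))) := by
  have h : (algebraMap A W).toAlgebra = (inferInstance : Algebra A W) :=
    Algebra.algebra_ext _ _ (fun r => rfl)
  show @Algebra.Etale A W _ _ (algebraMap A W).toAlgebra
  rw [h]
  infer_instance

/-- The algebra map underlying a morphism of `Under A`. -/
def algOf {Y Z : Under (CommRingCat.of A)} (g : Y ⟶ Z) :
    letI := Y.hom.hom.toAlgebra
    letI := Z.hom.hom.toAlgebra
    Y.right →ₐ[A] Z.right :=
  letI := Y.hom.hom.toAlgebra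
  letI := Z.hom.hom.toAlgebra
  { toRingHom := g.right.hom
    commutes' := fun r => congr($(Under.w g).hom r) }

/-- The algebra map underlying a morphism of `Under A` out of an `Under.mk`. -/
def algFromMk {W : Type u} [CommRing W] [Algebra A W] {Y : Under (CommRingCat.of A)}
    (g : Under.mk (CommRingCat.ofHom (algebraMap A W)) ⟶ Y) :
    letI := Y.hom.hom.toAlgebra
    W →ₐ[A] Y.right :=
  letI := Y.hom.hom.toAlgebra
  { toRingHom := g.right.hom
    commutes' := fun r => congr($(Under.w g).hom r) }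

/-- The coequalizer of two maps of étale algebras is étale. -/
theorem coeq_alg {W₁ W₂ Xr : Type u} [CommRing W₁] [CommRing W₂] [CommRing Xr] [Algebra A W₁]
    [Algebra A W₂] [Algebra A Xr] [Algebra.Etale A W₁] [Algebra.Etale A W₂]
    (f' g' : W₁ →ₐ[A] W₂) (v₂ : W₂ →ₐ[A] Xr) (hfg : v₂.comp f' = v₂.comp g') :
    ∃ (Q : Type u) (_ : CommRing Q) (_ : Algebra A Q) (_ : Algebra.Etale A Q) (q : W₂ →ₐ[A] Q)
      (vQ : Q →ₐ[A] Xr), vQ.comp q = v₂ ∧ q.comp f' = q.comp g' := by
  obtain ⟨ε, hε, hker⟩ := diag_idem f'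
  obtain ⟨νf, hνf⟩ : ∃ νf : W₁ ⊗[A] W₂ →ₐ[A] W₂, νf =
      Algebra.TensorProduct.lift f' (AlgHom.id A W₂) (fun _ _ => Commute.all _ _) := ⟨_, rfl⟩
  rw [← hνf] at hker
  obtain ⟨νg, hνg⟩ : ∃ νg : W₁ ⊗[A] W₂ →ₐ[A] W₂, νg =
      Algebra.TensorProduct.lift g' (AlgHom.id A W₂) (fun _ _ => Commute.all _ _) := ⟨_, rfl⟩
  have hνft : ∀ a b, νf (a ⊗ₜ[A] b) = f' a * b := by intro a b; rw [hνf]; simp
  have hνgt : ∀ a b, νg (a ⊗ₜ[A] b) = g' a * b := by intro a b; rw [hνg]; simp
  have hvν : ∀ z, v₂ (νg z) = v₂ (νf z) := by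
    intro z
    have : v₂.comp νg = v₂.comp νf := by
      apply Algebra.TensorProduct.ext'
      intro a b
      show v₂ (νg (a ⊗ₜ[A] b)) = v₂ (νf (a ⊗ₜ[A] b))
      rw [hνgt, hνft, map_mul, map_mul]
      congr 1
      exact (AlgHom.congr_fun hfg a).symm
    exact AlgHom.congr_fun this z
  obtain ⟨e, he⟩ : ∃ e : W₂, e = νg ε := ⟨_, rfl⟩
  have hidem : IsIdempotentElem e := by rw [he]; exact hε.map νg
  have h1ε : νf (1 - ε) = 0 := by
    have : (1 - ε) ∈ RingHom.ker νf := by rw [hker]; exact Ideal.mem_span_singleton_self _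
    exact this
  have hv1e : v₂ (1 - e) = 0 := by
    have : (1 : W₂) - e = νg (1 - ε) := by rw [he, map_sub, map_one]
    rw [this, hvν, h1ε, map_zero]
  haveI : IsLocalization.Away e (W₂ ⧸ Ideal.span {1 - e}) :=
    IsLocalization.Away.quotient_of_isIdempotentElem hidem
  haveI : Algebra.Etale W₂ (W₂ ⧸ Ideal.span {1 - e}) := Algebra.Etale.of_isLocalizationAway e
  haveI : Algebra.Etale A (W₂ ⧸ Ideal.span {1 - e}) := Algebra.Etale.comp A W₂ _
  refine ⟨W₂ ⧸ Ideal.span {1 - e}, inferInstance, inferInstance, inferInstance,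
    Ideal.Quotient.mkₐ A _, Ideal.Quotient.liftₐ (Ideal.span {1 - e}) v₂ ?_, ?_, ?_⟩
  · intro a ha
    obtain ⟨c, rfl⟩ := Ideal.mem_span_singleton'.mp ha
    rw [map_mul, hv1e, mul_zero]
  · ext x
    rfl
  · ext x
    show Ideal.Quotient.mk _ (f' x) = Ideal.Quotient.mk _ (g' x)
    rw [Ideal.Quotient.eq]
    have ht : (x ⊗ₜ[A] (1 : W₂) - (1 : W₁) ⊗ₜ[A] f' x) ∈ Ideal.span {1 - ε} := by
      rw [← hker, RingHom.mem_ker, map_sub, hνft, hνft, map_one, one_mul, mul_one, sub_self]
    obtain ⟨c, hc⟩ := Ideal.mem_span_singleton'.mp ht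
    have e1 : νg (c * (1 - ε)) = νg c * (1 - e) := by rw [map_mul, map_sub, map_one, he]
    have e2 : νg (x ⊗ₜ[A] (1 : W₂) - (1 : W₁) ⊗ₜ[A] f' x) = g' x - f' x := by
      rw [map_sub, hνgt, hνgt, map_one, one_mul, mul_one]
    have h2 : g' x - f' x = νg c * (1 - e) := by rw [← e1, ← e2, hc]
    have h3 : f' x - g' x = -(νg c) * (1 - e) := by rw [neg_mul, ← h2]; ring
    rw [h3]
    exact Ideal.mul_mem_left _ _ (Ideal.mem_span_singleton_self _)

end Defs

section Filt

variable (A : Type u) [CommRing A] (Xr : Type u) [CommRing Xr] [Algebra A Xr]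

/-- The target object. -/
abbrev tgt : Under (CommRingCat.of A) := Under.mk (CommRingCat.ofHom (algebraMap A Xr))

/-- The index category: étale `A`-algebras with a map to `Xr`. -/
abbrev Idx := CostructuredArrow (etaleProp A).ι (tgt A Xr)

variable {A Xr}

/-- The algebra map to `Xr` of an index. -/
def vOf (k : Idx A Xr) :
    letI := k.left.obj.hom.hom.toAlgebra
    k.left.obj.right →ₐ[A] Xr :=
  algOfHom k.left.obj Xr k.hom

variable (A Xr) in
/-- The index given by an étale algebra with a map to `Xr`. -/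
def obj (W : Type u) [CommRing W] [Algebra A W] [Algebra.Etale A W] (v : W →ₐ[A] Xr) :
    Idx A Xr :=
  CostructuredArrow.mk (S := (etaleProp A).ι) (T := tgt A Xr)
    (Y := ObjectProperty.FullSubcategory.mk (Under.mk (CommRingCat.ofHom (algebraMap A W)))
      (etaleProp_mk W)) (mkHom v)

/-- A morphism of indices into `obj`. -/
def homTo (k : Idx A Xr) (W : Type u) [CommRing W] [Algebra A W] [Algebra.Etale A W]
    (v : W →ₐ[A] Xr)
    (m : letI := k.left.obj.hom.hom.toAlgebra; k.left.obj.right →ₐ[A] W)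
    (hm : letI := k.left.obj.hom.hom.toAlgebra; v.comp m = vOf k) :
    k ⟶ obj A Xr W v :=
  CostructuredArrow.homMk (ObjectProperty.homMk (homOfAlg k.left.obj W m)) (by
    show homOfAlg k.left.obj W m ≫ mkHom v = k.hom
    rw [homOfAlg_comp, hm]
    exact homOfAlg_algOfHom k.left.obj Xr k.hom)

theorem cocone_objs (k₁ k₂ : Idx A Xr) :
    ∃ (k : Idx A Xr) (_ : k₁ ⟶ k) (_ : k₂ ⟶ k), True := by
  letI a₁ : Algebra A k₁.left.obj.right := k₁.left.obj.hom.hom.toAlgebra
  letI a₂ : Algebra A k₂.left.obj.right := k₂.left.obj.hom.hom.toAlgebra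
  haveI e₁ : Algebra.Etale A k₁.left.obj.right := k₁.left.property
  haveI e₂ : Algebra.Etale A k₂.left.obj.right := k₂.left.property
  haveI : Algebra.Etale A (k₁.left.obj.right ⊗[A] k₂.left.obj.right) :=
    Algebra.Etale.comp A k₁.left.obj.right _
  exact ⟨obj A Xr (k₁.left.obj.right ⊗[A] k₂.left.obj.right)
      (Algebra.TensorProduct.productMap (vOf k₁) (vOf k₂)),
    homTo k₁ _ _ Algebra.TensorProduct.includeLeft
      (Algebra.TensorProduct.productMap_left (vOf k₁) (vOf k₂)),
    homTo k₂ _ _ Algebra.TensorProduct.includeRight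
      (Algebra.TensorProduct.productMap_right (vOf k₁) (vOf k₂)), trivial⟩

theorem cocone_maps (k₁ k₂ : Idx A Xr) (f g : k₁ ⟶ k₂) :
    ∃ (k : Idx A Xr) (h : k₂ ⟶ k), f ≫ h = g ≫ h := by
  letI a₁ : Algebra A k₁.left.obj.right := k₁.left.obj.hom.hom.toAlgebra
  letI a₂ : Algebra A k₂.left.obj.right := k₂.left.obj.hom.hom.toAlgebra
  haveI e₁ : Algebra.Etale A k₁.left.obj.right := k₁.left.property
  haveI e₂ : Algebra.Etale A k₂.left.obj.right := k₂.left.property
  have hf : (vOf k₂).comp (algOf f.left.hom) = vOf k₁ := by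
    ext x
    exact congr(($(CostructuredArrow.w f)).right.hom x)
  have hg : (vOf k₂).comp (algOf g.left.hom) = vOf k₁ := by
    ext x
    exact congr(($(CostructuredArrow.w g)).right.hom x)
  obtain ⟨Q, _, _, hQ, q, vQ, hq1, hq2⟩ :=
    coeq_alg (algOf f.left.hom) (algOf g.left.hom) (vOf k₂) (hf.trans hg.symm)
  haveI := hQ
  refine ⟨obj A Xr Q vQ, homTo k₂ Q vQ q hq1, ?_⟩
  apply CostructuredArrow.hom_ext
  apply ObjectProperty.hom_ext
  ext x
  exact AlgHom.congr_fun hq2 x

instance : IsFilteredOrEmpty (Idx A Xr) where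
  cocone_objs := fun k₁ k₂ => cocone_objs k₁ k₂
  cocone_maps := fun k₁ k₂ f g => cocone_maps k₁ k₂ f g

instance : IsFiltered (Idx A Xr) where
  nonempty := ⟨obj A Xr A (Algebra.ofId A Xr)⟩

instance : EssentiallySmall.{u} (Idx A Xr) := by
  let incl : (etaleProp A).FullSubcategory ⥤
      (ObjectProperty.isFinitelyPresentable.{u} (Under (CommRingCat.of A))).FullSubcategory :=
    ObjectProperty.ιOfLE (etaleProp_le_fp A)
  have h1 : ObjectProperty.EssentiallySmall.{u}
      (ObjectProperty.isFinitelyPresentable.{u} (Under (CommRingCat.of A))) := inferInstance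
  have h2 : EssentiallySmall.{u}
      (ObjectProperty.isFinitelyPresentable.{u} (Under (CommRingCat.of A))).FullSubcategory :=
    inferInstance
  have h3 : EssentiallySmall.{u} (CostructuredArrow
      (ObjectProperty.isFinitelyPresentable.{u} (Under (CommRingCat.of A))).ι (tgt A Xr)) :=
    inferInstance
  exact essentiallySmall_of_fully_faithful (C := CostructuredArrow (incl ⋙ _) (tgt A Xr))
    (CostructuredArrow.pre incl
      (ObjectProperty.isFinitelyPresentable.{u} (Under (CommRingCat.of A))).ι (tgt A Xr))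

end Filt

end Groth.Agent.Lib.Helper6.IndEtLift
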