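import Mathlib
import Groth.Prelude.Def_PBC
import Groth.Agent.Lib.Helper6.IndEtLift.IL1
import Groth.Agent.Lib.Helper6.IndEtElim

/-!
# The ind-étale coreflection of an algebra (helper6)

For an `A`-algebra `Xr`, the colimit of all étale `A`-algebras mapping to `Xr`.
-/

set_option autoImplicit false
set_option linter.unusedSectionVars false
set_option linter.unusedVariables false
set_option linter.unusedSimpArgs false
set_option linter.style.haveILetI false
set_option maxHeartbeats 800000
set_option synthInstance.maxHeartbeats 400000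

universe u

open CategoryTheory CategoryTheory.Limits TensorProduct

namespace Groth.Agent.Lib.Helper6.IndEtLift

open Groth.Agent.Lib.Helper6.IndEtObj Groth.Agent.Lib.Helper6.HensIndEt

section Corefl

variable (A : Type u) [CommRing A] (Xr : Type u) [CommRing Xr] [Algebra A Xr]

/-- A small model of the index category. -/
abbrev SJ : Type u := SmallModel.{u} (Idx A Xr)

/-- The equivalence with the small model. -/
noncomputable def eqv : Idx A Xr ≌ SJ A Xr := equivSmallModel _

instance : IsFiltered (SJ A Xr) := IsFiltered.of_equivalence (eqv A Xr)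

/-- The diagram of étale algebras. -/
noncomputable def diagD : SJ A Xr ⥤ Under (CommRingCat.of A) :=
  (eqv A Xr).inverse ⋙ CostructuredArrow.proj (etaleProp A).ι (tgt A Xr) ⋙ (etaleProp A).ι

/-- The tautological cocone over `Xr`. -/
noncomputable def coconeX : Cocone (diagD A Xr) where
  pt := tgt A Xr
  ι :=
    { app := fun j => ((eqv A Xr).inverse.obj j).hom
      naturality := fun j j' f => by
        have := CostructuredArrow.w ((eqv A Xr).inverse.map f)
        exact this.trans (Category.comp_id _).symm }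

theorem exists_coreflection :
    ∃ (C : Type u) (_ : CommRing C) (_ : Algebra A C) (ε : C →ₐ[A] Xr),
      EtPBC.IsIndEtale A C ∧
      (∀ (W : Type u) [CommRing W] [Algebra A W] [Algebra.Etale A W] (v : W →ₐ[A] Xr),
        ∃ w : W →ₐ[A] C, ε.comp w = v) ∧
      (∀ c : C, ∃ (W : Type u) (_ : CommRing W) (_ : Algebra A W) (_ : Algebra.Etale A W)
        (w : W →ₐ[A] C) (y : W), w y = c ∧
        ∀ (W' : Type u) [CommRing W'] [Algebra A W'] [Algebra.Etale A W'] (m : W →ₐ[A] W')
          (v' : W' →ₐ[A] Xr), v'.comp m = ε.comp w → ∃ w' : W' →ₐ[A] C, w'.comp m = w) := by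
  obtain ⟨c, ⟨hc⟩⟩ : ∃ c : Cocone (diagD A Xr), Nonempty (IsColimit c) :=
    ⟨colimit.cocone _, ⟨colimit.isColimit _⟩⟩
  obtain ⟨εU, hεU⟩ : ∃ εU : c.pt ⟶ tgt A Xr,
      ∀ j, c.ι.app j ≫ εU = ((eqv A Xr).inverse.obj j).hom :=
    ⟨hc.desc (coconeX A Xr), fun j => hc.fac (coconeX A Xr) j⟩
  letI aC : Algebra A c.pt.right := c.pt.hom.hom.toAlgebra
  refine ⟨c.pt.right, inferInstance, aC, algOfHom c.pt Xr εU, ?_, ?_, ?_⟩
  · exact (isIndEtale_iff_ind' A c.pt).mpr ⟨SJ A Xr, inferInstance, inferInstance,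
      ColimitPresentation.mk (diagD A Xr) c.ι hc,
      fun j => ((eqv A Xr).inverse.obj j).left.property⟩
  · intro W _ _ _ v
    obtain ⟨k, hk⟩ : ∃ k : Idx A Xr, k = obj A Xr W v := ⟨_, rfl⟩
    obtain ⟨η, hη⟩ : ∃ η : obj A Xr W v ⟶ (eqv A Xr).inverse.obj ((eqv A Xr).functor.obj
        (obj A Xr W v)), η = (eqv A Xr).unit.app (obj A Xr W v) := ⟨_, rfl⟩
    have hη1 : η.left.hom ≫ ((eqv A Xr).inverse.obj ((eqv A Xr).functor.obj
        (obj A Xr W v))).hom = mkHom v := CostructuredArrow.w η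
    have hw : (η.left.hom ≫ c.ι.app ((eqv A Xr).functor.obj (obj A Xr W v))) ≫ εU =
        mkHom v :=
      (Category.assoc _ _ _).trans ((whisker_eq η.left.hom (hεU _)).trans hη1)
    refine ⟨algFromMk (η.left.hom ≫ c.ι.app ((eqv A Xr).functor.obj (obj A Xr W v))), ?_⟩
    ext x
    exact congr(($hw).right.hom x)
  · intro c0
    obtain ⟨hsurj, -⟩ := Groth.Agent.Lib.Helper6.IndEt.elim_elementwise (CommRingCat.of A)
      (diagD A Xr) c hc
    obtain ⟨k, y, hy⟩ := hsurj c0
    letI aW : Algebra A ((eqv A Xr).inverse.obj k).left.obj.right :=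
      ((eqv A Xr).inverse.obj k).left.obj.hom.hom.toAlgebra
    haveI eW : Algebra.Etale A ((eqv A Xr).inverse.obj k).left.obj.right :=
      ((eqv A Xr).inverse.obj k).left.property
    refine ⟨((eqv A Xr).inverse.obj k).left.obj.right, inferInstance, aW, eW,
      algOf (c.ι.app k), y, hy, ?_⟩
    intro W' _ _ _ m v' hmv
    have hm : v'.comp m = vOf ((eqv A Xr).inverse.obj k) := by
      rw [hmv]
      ext x
      exact congr(($(hεU k)).right.hom x)
    obtain ⟨mt, hmt⟩ : ∃ mt : (eqv A Xr).inverse.obj k ⟶ obj A Xr W' v',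
        mt = homTo ((eqv A Xr).inverse.obj k) W' v' m hm := ⟨_, rfl⟩
    obtain ⟨η, hη⟩ : ∃ η : obj A Xr W' v' ⟶ (eqv A Xr).inverse.obj ((eqv A Xr).functor.obj
        (obj A Xr W' v')), η = (eqv A Xr).unit.app (obj A Xr W' v') := ⟨_, rfl⟩
    obtain ⟨f, hf⟩ : ∃ f : k ⟶ (eqv A Xr).functor.obj (obj A Xr W' v'),
        (eqv A Xr).inverse.map f = mt ≫ η :=
      ⟨(eqv A Xr).inverse.preimage (mt ≫ η), Functor.map_preimage _ _⟩
    refine ⟨algFromMk (η.left.hom ≫ c.ι.app ((eqv A Xr).functor.obj (obj A Xr W' v'))), ?_⟩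
    have h1 : (diagD A Xr).map f ≫ c.ι.app ((eqv A Xr).functor.obj (obj A Xr W' v')) =
        c.ι.app k := c.w f
    have h2 : (diagD A Xr).map f = mt.left.hom ≫ η.left.hom := by
      show ((eqv A Xr).inverse.map f).left.hom = _
      rw [hf]
      rfl
    rw [h2] at h1
    ext x
    have h3 := congr(($h1).right.hom x)
    rw [hmt] at h3
    exact h3

end Corefl

end Groth.Agent.Lib.Helper6.IndEtLift
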