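import Mathlib
import Groth.Prelude.Def_PBC
import Groth.Agent.Lib.Helper6.IndEtLift.IL2
import Groth.Agent.Lib.Helper6.IndEtCancel
import Groth.Agent.Lib.Helper7.CAlg.EtaleLift

/-!
# Lifting ind-étale algebras along `A → A ⧸ I` (helper6)
-/

set_option autoImplicit false
set_option linter.unusedSectionVars false
set_option linter.unusedVariables false
set_option linter.unusedSimpArgs false
set_option linter.style.haveILetI false
set_option maxHeartbeats 800000
set_option synthInstance.maxHeartbeats 400000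

universe u

open CategoryTheory CategoryTheory.Limits TensorProduct

namespace Groth.Agent.Lib.Helper6.IndEtLift

open Groth.Agent.Lib.Helper6.IndEtObj Groth.Agent.Lib.Helper6.HensIndEt

theorem isIndEtale_of_etale (R S : Type u) [CommRing R] [CommRing S] [Algebra R S]
    [Algebra.Etale R S] : EtPBC.IsIndEtale R S :=
  (isIndEtale_iff_ind R S).mpr (ObjectProperty.le_ind (etaleProp R) _ (etaleProp_mk S))

/-- Étale algebras over a quotient lift, in quotient form. -/
theorem exists_lift_quot (R : Type u) [CommRing R] (𝔞 : Ideal R) (Sb : Type u) [CommRing Sb]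
    [Algebra (R ⧸ 𝔞) Sb] [Algebra.Etale (R ⧸ 𝔞) Sb] :
    ∃ (S : Type u) (_ : CommRing S) (_ : Algebra R S), Algebra.Etale R S ∧
      ∃ p : S →+* Sb, Function.Surjective p ∧
        (∀ r : R, p (algebraMap R S r) = algebraMap (R ⧸ 𝔞) Sb (Ideal.Quotient.mk 𝔞 r)) ∧
        RingHom.ker p = 𝔞.map (algebraMap R S) := by
  obtain ⟨S, _, _, hS, ⟨θ⟩⟩ := Groth.Agent.Helper7.EtaleLift.exists_etale_lift R 𝔞 Sb
  refine ⟨S, inferInstance, inferInstance, hS, ?_⟩
  obtain ⟨q, hq⟩ : ∃ q : (S ⧸ 𝔞.map (algebraMap R S)) ≃ₐ[R ⧸ 𝔞] Sb,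
      q = (Algebra.TensorProduct.quotIdealMapEquivQuotTensor S 𝔞).trans θ := ⟨_, rfl⟩
  refine ⟨q.toAlgHom.toRingHom.comp (Ideal.Quotient.mk _), ?_, ?_, ?_⟩
  · exact q.surjective.comp Ideal.Quotient.mk_surjective
  · intro r
    exact q.commutes (Ideal.Quotient.mk 𝔞 r)
  · ext s
    rw [RingHom.mem_ker]
    show q (Ideal.Quotient.mk _ s) = 0 ↔ _
    rw [map_eq_zero_iff q q.injective, Ideal.Quotient.eq_zero_iff_mem]

section QuotLift

variable {A : Type u} [CommRing A] (I : Ideal A) {W Cb : Type u} [CommRing W] [CommRing Cb]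
  [Algebra A W] [Algebra (A ⧸ I) Cb] [Algebra A Cb] [IsScalarTower A (A ⧸ I) Cb]

theorem quot_kill (v : W →ₐ[A] Cb) : ∀ a ∈ I.map (algebraMap A W), v.toRingHom a = 0 := by
  intro a ha
  have : I.map (algebraMap A W) ≤ RingHom.ker v.toRingHom := by
    rw [Ideal.map_le_iff_le_comap]
    intro r hr
    show v (algebraMap A W r) = 0
    have h0 : algebraMap A (A ⧸ I) r = 0 := Ideal.Quotient.eq_zero_iff_mem.mpr hr
    rw [v.commutes, IsScalarTower.algebraMap_apply A (A ⧸ I) Cb, h0, map_zero]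
  exact this ha

/-- An `A`-algebra map to an `A ⧸ I`-algebra factors through the quotient. -/
noncomputable def quotLift (v : W →ₐ[A] Cb) : (W ⧸ I.map (algebraMap A W)) →ₐ[A ⧸ I] Cb :=
  { toRingHom := Ideal.Quotient.lift (I.map (algebraMap A W)) v.toRingHom (quot_kill I v)
    commutes' := fun r => by
      obtain ⟨a, rfl⟩ := Ideal.Quotient.mk_surjective r
      show v (algebraMap A W a) = algebraMap (A ⧸ I) Cb (Ideal.Quotient.mk I a)
      rw [v.commutes, IsScalarTower.algebraMap_apply A (A ⧸ I) Cb]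
      rfl }

theorem quotLift_mk (v : W →ₐ[A] Cb) (x : W) : quotLift I v (Ideal.Quotient.mk _ x) = v x := rfl

end QuotLift

/-- The key refinement step. -/
theorem key (A : Type u) [CommRing A] (I : Ideal A) (Cb : Type u) [CommRing Cb]
    [Algebra (A ⧸ I) Cb] [Algebra A Cb] [IsScalarTower A (A ⧸ I) Cb]
    (h : EtPBC.IsIndEtale (A ⧸ I) Cb)
    (W : Type u) [CommRing W] [Algebra A W] [Algebra.Etale A W] (v : W →ₐ[A] Cb) (y : W)
    (hy : v y = 0) :
    ∃ (W' : Type u) (_ : CommRing W') (_ : Algebra A W') (_ : Algebra.Etale A W')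
      (m : W →ₐ[A] W') (v' : W' →ₐ[A] Cb), v'.comp m = v ∧ m y ∈ I.map (algebraMap A W') := by
  haveI hWb : Algebra.Etale (A ⧸ I) (W ⧸ I.map (algebraMap A W)) :=
    Algebra.Etale.of_equiv (Algebra.TensorProduct.quotIdealMapEquivQuotTensor W I).symm
  letI algWbCb : Algebra (W ⧸ I.map (algebraMap A W)) Cb := (quotLift I v).toRingHom.toAlgebra
  haveI : IsScalarTower (A ⧸ I) (W ⧸ I.map (algebraMap A W)) Cb :=
    IsScalarTower.of_algebraMap_eq (fun r => ((quotLift I v).commutes r).symm)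
  have hcancel : EtPBC.IsIndEtale (W ⧸ I.map (algebraMap A W)) Cb :=
    Groth.Agent.Lib.Helper6.IndEtCancel.cancel (A ⧸ I) (W ⧸ I.map (algebraMap A W)) Cb
      (isIndEtale_of_etale _ _) h
  obtain ⟨J, _, _, F, _, _, hEt, φ, τ, hcompat, hs, hinj⟩ :=
    Groth.Agent.Lib.Helper6.IndEt.exists_system hcancel
  obtain ⟨l₀⟩ := IsFiltered.nonempty (C := J)
  have h1 : φ l₀ (algebraMap _ (F l₀) (Ideal.Quotient.mk (I.map (algebraMap A W)) y)) =
      φ l₀ 0 := by
    rw [(φ l₀).commutes, map_zero]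
    exact hy
  obtain ⟨l, f, hl⟩ := hinj l₀ _ _ h1
  rw [(τ l₀ l f).commutes, map_zero] at hl
  haveI := hEt l
  obtain ⟨W', _, _, hW', p, hp, hpc, hpk⟩ := exists_lift_quot W (I.map (algebraMap A W)) (F l)
  haveI := hW'
  letI algAW' : Algebra A W' := ((algebraMap W W').comp (algebraMap A W)).toAlgebra
  haveI : IsScalarTower A W W' := IsScalarTower.of_algebraMap_eq (fun _ => rfl)
  haveI : Algebra.Etale A W' := Algebra.Etale.comp A W W'
  have hρ : ∀ x : W, φ l (p (algebraMap W W' x)) = v x := by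
    intro x
    rw [hpc, (φ l).commutes]
    rfl
  refine ⟨W', inferInstance, algAW', inferInstance, IsScalarTower.toAlgHom A W W',
    { toRingHom := (φ l).toRingHom.comp p
      commutes' := fun a => by
        show φ l (p (algebraMap W W' (algebraMap A W a))) = algebraMap A Cb a
        rw [hρ, v.commutes] }, ?_, ?_⟩
  · ext x
    exact hρ x
  · show algebraMap W W' y ∈ _
    have : algebraMap W W' y ∈ RingHom.ker p := by
      rw [RingHom.mem_ker, hpc, hl]
    rw [hpk, Ideal.map_map] at this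
    exact this

theorem main (A : Type u) [CommRing A] (I : Ideal A) (Cb : Type u)
    [CommRing Cb] [Algebra (A ⧸ I) Cb] (h : EtPBC.IsIndEtale (A ⧸ I) Cb) :
    ∃ (C : Type u) (_ : CommRing C) (_ : Algebra A C),
      EtPBC.IsIndEtale A C ∧ Nonempty ((C ⧸ I.map (algebraMap A C)) ≃ₐ[A ⧸ I] Cb) := by
  letI algCb : Algebra A Cb := ((algebraMap (A ⧸ I) Cb).comp (Ideal.Quotient.mk I)).toAlgebra
  haveI : IsScalarTower A (A ⧸ I) Cb := IsScalarTower.of_algebraMap_eq (fun _ => rfl)
  have hmap : ∀ a : A, algebraMap A Cb a = algebraMap (A ⧸ I) Cb (Ideal.Quotient.mk I a) :=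
    fun _ => rfl
  obtain ⟨C, _, _, ε, hC, hP2, hP3⟩ := exists_coreflection A Cb
  refine ⟨C, inferInstance, inferInstance, hC, ?_⟩
  have hsurj : Function.Surjective ε := by
    intro x
    obtain ⟨J, _, _, E, _, _, hEt, φ, τ, hcompat, hs, -⟩ :=
      Groth.Agent.Lib.Helper6.IndEt.exists_system h
    obtain ⟨j, e, rfl⟩ := hs x
    haveI := hEt j
    obtain ⟨W, _, _, hW, p, hp, hpc, -⟩ := exists_lift_quot A I (E j)
    haveI := hW
    obtain ⟨v, hv⟩ : ∃ v : W →ₐ[A] Cb, ∀ z, v z = φ j (p z) :=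
      ⟨{ toRingHom := (φ j).toRingHom.comp p
         commutes' := fun a => by
          show φ j (p (algebraMap A W a)) = algebraMap A Cb a
          rw [hpc, (φ j).commutes, hmap] }, fun _ => rfl⟩
    obtain ⟨w, hw⟩ := hP2 W v
    obtain ⟨z, rfl⟩ := hp e
    exact ⟨w z, (AlgHom.congr_fun hw z).trans (hv z)⟩
  have hker : ∀ c : C, ε c = 0 → c ∈ I.map (algebraMap A C) := by
    intro c hc
    obtain ⟨W, _, _, hW, w, y, rfl, hlift⟩ := hP3 c
    haveI := hW
    obtain ⟨W', _, _, hW', m, v', hv', hy⟩ := key A I Cb h W (ε.comp w) y hc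
    haveI := hW'
    obtain ⟨w', hw'⟩ := hlift W' m v' hv'
    rw [← hw']
    show w' (m y) ∈ _
    have := Ideal.mem_map_of_mem w'.toRingHom hy
    rw [Ideal.map_map] at this
    have h2 : w'.toRingHom.comp (algebraMap A W') = algebraMap A C := w'.comp_algebraMap
    rw [h2] at this
    exact this
  have hinj : Function.Injective (quotLift I ε) := by
    rw [injective_iff_map_eq_zero]
    intro x hx
    obtain ⟨c, rfl⟩ := Ideal.Quotient.mk_surjective x
    exact Ideal.Quotient.eq_zero_iff_mem.mpr (hker c hx)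
  have hsurj' : Function.Surjective (quotLift I ε) := fun x => by
    obtain ⟨c, rfl⟩ := hsurj x
    exact ⟨Ideal.Quotient.mk _ c, rfl⟩
  exact ⟨AlgEquiv.ofBijective (quotLift I ε) ⟨hinj, hsurj'⟩⟩

end Groth.Agent.Lib.Helper6.IndEtLift
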